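import Groth.Agent.Lib.Helper5.EtSrc.Reduction
set_option autoImplicit false
universe u
open CategoryTheory CategoryTheory.Limits AlgebraicGeometry MorphismProperty TensorProduct
namespace Groth.Agent.H5.EtSrc

section Algebra

variable {A B C : Type*} [CommRing A] [CommRing B] [CommRing C] [Algebra A B] [Algebra B C]
  [Algebra A C] [IsScalarTower A B C]

/-- Flatness descends along a faithfully flat extension of the source. -/
lemma flat_of_flat_of_faithfullyFlat [Module.Flat A C] [Module.FaithfullyFlat B C] :
    Module.Flat A B := by
  rw [Module.Flat.iff_lTensor_preserves_injective_linearMap]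
  intro N N' _ _ _ _ l hl
  have h1 : Function.Injective (l.baseChange B) := by
    rw [← Module.FaithfullyFlat.lTensor_injective_iff_injective B C]
    have h2 : Function.Injective (l.lTensor C) :=
      Module.Flat.lTensor_preserves_injective_linearMap l hl
    have : (AlgebraTensorModule.cancelBaseChange A B C C N').toLinearMap.restrictScalars B ∘ₗ
        (l.baseChange B).lTensor C =
        (l.baseChange C).restrictScalars B ∘ₗ
          (AlgebraTensorModule.cancelBaseChange A B C C N).toLinearMap.restrictScalars B := by
      ext c n
      simp
    have h3 : Function.Injective ((AlgebraTensorModule.cancelBaseChange A B C C N') ∘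
        ((l.baseChange B).lTensor C)) := by
      have h4 : ⇑(AlgebraTensorModule.cancelBaseChange A B C C N') ∘
          ⇑((l.baseChange B).lTensor C) = ⇑(l.baseChange C) ∘
            ⇑(AlgebraTensorModule.cancelBaseChange A B C C N) := by
        funext x
        exact DFunLike.congr_fun this x
      rw [h4]
      exact Function.Injective.comp (by rw [LinearMap.baseChange_eq_ltensor]; exact h2)
        (LinearEquiv.injective _)
    exact Function.Injective.of_comp h3
  exact h1

/-- Formal unramifiedness descends along a formally étale faithfully flat extension of the
source. -/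
lemma formallyUnramified_of_formallyEtale_of_faithfullyFlat [Algebra.FormallyUnramified A C]
    [Algebra.FormallyEtale B C] [Module.FaithfullyFlat B C] : Algebra.FormallyUnramified A B := by
  constructor
  have : Subsingleton (C ⊗[B] Ω[B⁄A]) :=
    (KaehlerDifferential.tensorKaehlerEquivOfFormallyEtale A B C).subsingleton
  exact Module.FaithfullyFlat.lTensor_reflects_triviality B C _

end Algebra

/-- Translate the ring hom hypotheses into algebra instances. -/
lemma faithfullyFlat_of_etale_of_comap_surjective {B C : Type u} [CommRing B] [CommRing C]
    [Algebra B C] [Algebra.Etale B C]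
    (h : Function.Surjective (PrimeSpectrum.comap (algebraMap B C))) :
    Module.FaithfullyFlat B C :=
  Module.FaithfullyFlat.of_comap_surjective h

instance isEtaleLocalSource_flat : IsEtaleLocalSource (@Flat : MorphismProperty Scheme.{u}) := by
  refine isEtaleLocalSource_of_ringHom (Q := RingHom.Flat) ?_
  intro A B C _ _ _ φ ψ hψ hs h
  algebraize [φ, ψ, ψ.comp φ]
  have := faithfullyFlat_of_etale_of_comap_surjective (B := B) (C := C) hs
  exact flat_of_flat_of_faithfullyFlat (A := A) (B := B) (C := C)

instance isEtaleLocalSource_formallyUnramified :
    IsEtaleLocalSource (@FormallyUnramified : MorphismProperty Scheme.{u}) := by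
  refine isEtaleLocalSource_of_ringHom (Q := RingHom.FormallyUnramified) ?_
  intro A B C _ _ _ φ ψ hψ hs h
  algebraize [φ, ψ, ψ.comp φ]
  have := faithfullyFlat_of_etale_of_comap_surjective (B := B) (C := C) hs
  exact formallyUnramified_of_formallyEtale_of_faithfullyFlat (A := A) (B := B) (C := C)

end Groth.Agent.H5.EtSrc
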