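import Groth.Agent.Lib.Helper5.EtSrc.FinitePresentation
set_option autoImplicit false
universe u
open CategoryTheory CategoryTheory.Limits AlgebraicGeometry MorphismProperty TensorProduct
namespace Groth.Agent.H5.EtSrc

theorem bijective_liftBaseChange_of_flat {R E : Type*} [CommRing R] [CommRing E] [Algebra R E]
    [Module.Flat R E] (I : Ideal R) (J : Ideal E) (hJ : J = I.map (algebraMap R E))
    (φ : I →ₗ[R] J) (hφ : ∀ x : I, ((φ x : J) : E) = algebraMap R E x) :
    Function.Bijective (φ.liftBaseChange E) := by
  have h2 : ∀ z : E ⊗[R] I, ((φ.liftBaseChange E z : J) : E) =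
      (TensorProduct.rid R E) (LinearMap.lTensor E (Submodule.subtype I) z) := by
    intro z
    induction z with
    | zero => simp
    | add x y hx hy =>
      rw [map_add, map_add, map_add, ← hx, ← hy]
      rfl
    | tmul e x =>
      simp only [LinearMap.liftBaseChange_tmul, LinearMap.lTensor_tmul, Submodule.subtype_apply,
        TensorProduct.rid_tmul, Submodule.coe_smul, hφ, smul_eq_mul]
      rw [Algebra.smul_def, mul_comm]
  constructor
  · have h1 : Function.Injective (LinearMap.lTensor E (Submodule.subtype I)) :=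
      Module.Flat.lTensor_preserves_injective_linearMap _ Subtype.val_injective
    intro z w hzw
    apply h1
    apply (TensorProduct.rid R E).injective
    rw [← h2, ← h2, hzw]
  · rintro ⟨y, hy⟩
    have key : ∀ y ∈ I.map (algebraMap R E), ∃ z : E ⊗[R] I,
        ((φ.liftBaseChange E z : J) : E) = y := by
      intro y hy
      refine Submodule.span_induction ?_ ?_ ?_ ?_ hy
      · rintro _ ⟨x, hx, rfl⟩
        exact ⟨(1 : E) ⊗ₜ ⟨x, hx⟩, by simp [LinearMap.liftBaseChange_tmul, hφ]⟩
      · exact ⟨0, by simp⟩
      · rintro a b _ _ ⟨za, rfl⟩ ⟨zb, rfl⟩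
        exact ⟨za + zb, by rw [map_add]; rfl⟩
      · rintro e a _ ⟨za, rfl⟩
        exact ⟨e • za, by rw [map_smul]; rfl⟩
    obtain ⟨z, hz⟩ := key y (hJ ▸ hy)
    exact ⟨z, Subtype.ext hz⟩

open Algebra in
/-- Base change of `H¹(L_{B/A})` along an étale map `B → C`. -/
theorem nonempty_tensorH1Cotangent_equiv {A B C : Type u} [CommRing A] [CommRing B] [CommRing C]
    [Algebra A B] [Algebra B C] [Algebra A C] [IsScalarTower A B C] [Algebra.Etale B C] :
    Nonempty (C ⊗[B] H1Cotangent A B ≃ₗ[C] H1Cotangent A C) := by
  let P : Extension A B := (Generators.self A B).toExtension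
  let _ : Algebra P.Ring C := ((algebraMap B C).comp (algebraMap P.Ring B)).toAlgebra
  have : IsScalarTower P.Ring B C := .of_algebraMap_eq' rfl
  obtain ⟨E, _, _, hEt, ψ, hψs, hker⟩ :=
    exists_etale_lift (R := P.Ring) (B := B) (C := C) P.algebraMap_surjective
  let _ : Algebra A E := ((algebraMap P.Ring E).comp (algebraMap A P.Ring)).toAlgebra
  have : IsScalarTower A P.Ring E := .of_algebraMap_eq' rfl
  have : IsScalarTower A P.Ring C := .of_algebraMap_eq fun a => by
    rw [IsScalarTower.algebraMap_apply A B C, IsScalarTower.algebraMap_apply A P.Ring B]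
    rfl
  let Q : Extension A C := .ofSurjective (ψ.restrictScalars A) hψs
  let f : P.Hom Q :=
    { toRingHom := algebraMap P.Ring E
      toRingHom_algebraMap := fun x => (IsScalarTower.algebraMap_apply A P.Ring E x).symm
      algebraMap_toRingHom := fun x => by
        change ψ (algebraMap P.Ring E x) = _
        rw [ψ.commutes]
        rfl }
  have : FormallySmooth A P.Ring := inferInstanceAs (FormallySmooth A (MvPolynomial B A))
  have : FormallySmooth A Q.Ring := FormallySmooth.comp A P.Ring E
  let _ : Algebra P.Ring Q.Ring := (inferInstance : Algebra P.Ring E)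
  have H₁ : f.toRingHom.FormallyEtale :=
    RingHom.formallyEtale_algebraMap.mpr (inferInstance : FormallyEtale P.Ring E)
  have hflat : Module.Flat P.Ring Q.Ring := (inferInstance : Module.Flat P.Ring E)
  have H₂ : Function.Bijective ((f.mapKer rfl).liftBaseChange Q.Ring) :=
    bijective_liftBaseChange_of_flat (R := P.Ring) (E := Q.Ring) P.ker Q.ker hker
      (f.mapKer rfl) (fun x => rfl)
  exact ⟨Extension.tensorH1CotangentOfFormallyEtale f rfl H₁ H₂ ≪≫ₗ
    Extension.equivH1CotangentOfFormallySmooth _⟩

/-- Smoothness descends along an étale faithfully flat extension of the source. -/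
theorem smooth_of_etale_of_faithfullyFlat {A B C : Type u} [CommRing A] [CommRing B]
    [CommRing C] [Algebra A B] [Algebra B C] [Algebra A C] [IsScalarTower A B C]
    [Algebra.Etale B C] [Module.FaithfullyFlat B C] [Algebra.Smooth A C] :
    Algebra.Smooth A B := by
  have hfp : Algebra.FinitePresentation A B := finitePresentation_of_etale_of_faithfullyFlat (C := C)
  refine ⟨?_, hfp⟩
  rw [Algebra.formallySmooth_iff]
  constructor
  · let e' : C ⊗[B] Ω[B⁄A] ≃ₗ[C] Ω[C⁄A] :=
      KaehlerDifferential.tensorKaehlerEquivOfFormallyEtale A B C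
    have : Module.Flat C (C ⊗[B] Ω[B⁄A]) := .of_linearEquiv e'
    have : Module.Flat B Ω[B⁄A] := Module.Flat.of_flat_tensorProduct _ _ C
    exact Module.Flat.projective_of_finitePresentation
  · obtain ⟨e⟩ := nonempty_tensorH1Cotangent_equiv (A := A) (B := B) (C := C)
    have : Subsingleton (C ⊗[B] Algebra.H1Cotangent A B) := e.subsingleton
    exact Module.FaithfullyFlat.lTensor_reflects_triviality B C _

instance isEtaleLocalSource_smooth :
    IsEtaleLocalSource (@Smooth : MorphismProperty Scheme.{u}) := by
  refine isEtaleLocalSource_of_ringHom (Q := RingHom.Smooth) ?_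
  intro A B C _ _ _ φ ψ hψ hs h
  algebraize [φ, ψ, ψ.comp φ]
  have := faithfullyFlat_of_etale_of_comap_surjective (B := B) (C := C) hs
  exact RingHom.smooth_algebraMap.mpr (smooth_of_etale_of_faithfullyFlat (A := A) (B := B) (C := C))

end Groth.Agent.H5.EtSrc
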