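import Mathlib

/-!
# A descent lemma: checking a property after a flat, locally finitely presented base change
which is only surjective onto an open containing the image
-/

set_option autoImplicit false

universe u

open CategoryTheory CategoryTheory.Limits AlgebraicGeometry MorphismProperty

namespace Groth.Agent.H5.EtSrc

/-- Pullbacks over the source of a monomorphism agree with pullbacks over its target. -/
theorem isPullback_of_comp_mono' {C : Type*} [Category C] {P A B X X' : C} {fst : P ⟶ A}
    {snd : P ⟶ B} {f : A ⟶ X'} {g : B ⟶ X'} (j : X' ⟶ X) [Mono j]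
    (sq : IsPullback fst snd (f ≫ j) (g ≫ j)) : IsPullback fst snd f g := by
  have w : fst ≫ f = snd ≫ g := by
    rw [← cancel_mono j, Category.assoc, Category.assoc, sq.w]
  refine ⟨⟨w⟩, ⟨PullbackCone.IsLimit.mk _
    (fun s => sq.lift s.fst s.snd (by rw [← Category.assoc, s.condition, Category.assoc])) ?_ ?_ ?_⟩⟩
  · intro s; exact sq.lift_fst _ _ _
  · intro s; exact sq.lift_snd _ _ _
  · intro s m h1 h2
    apply sq.hom_ext
    · rw [h1, sq.lift_fst]
    · rw [h2, sq.lift_snd]

/-- Let `j : X ⟶ Y` and `e : Y' ⟶ Y` be flat and locally of finite presentation such that the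
projection `X ×[Y] Y' ⟶ X` is surjective. If `P` satisfies fppf descent and is stable under
postcomposition with open immersions, then `P` for the base change of `j` implies `P j`. -/
theorem of_isPullback_of_flat_lfp {P : MorphismProperty Scheme.{u}}
    [P.DescendsAlong (@Surjective ⊓ @Flat ⊓ @LocallyOfFinitePresentation)]
    (hP : ∀ {X Y Z : Scheme.{u}} (f : X ⟶ Y) (g : Y ⟶ Z), IsOpenImmersion g → P f → P (f ≫ g))
    {X' X Y' Y : Scheme.{u}} {pr : X' ⟶ X} {i : X' ⟶ Y'} {j : X ⟶ Y} {e : Y' ⟶ Y}
    (sq : IsPullback pr i j e) [Surjective pr] [Flat e] [LocallyOfFinitePresentation e]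
    (hi : P i) : P j := by
  let W : Y.Opens := ⟨Set.range e, e.isOpenMap.isOpen_range⟩
  have hj : Set.range j ⊆ Set.range W.ι := by
    rw [Scheme.Opens.range_ι]
    rintro _ ⟨x, rfl⟩
    obtain ⟨x', rfl⟩ := pr.surjective x
    exact ⟨i x', by rw [← Scheme.Hom.comp_apply, ← sq.w, Scheme.Hom.comp_apply]⟩
  have he : Set.range e ⊆ Set.range W.ι := by
    rw [Scheme.Opens.range_ι]
    exact subset_rfl
  have hj' : IsOpenImmersion.lift W.ι j hj ≫ W.ι = j := IsOpenImmersion.lift_fac _ _ _
  have he' : IsOpenImmersion.lift W.ι e he ≫ W.ι = e := IsOpenImmersion.lift_fac _ _ _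
  have sq' : IsPullback pr i (IsOpenImmersion.lift W.ι j hj) (IsOpenImmersion.lift W.ι e he) :=
    isPullback_of_comp_mono' W.ι (by rw [hj', he']; exact sq)
  have h1 : Surjective (IsOpenImmersion.lift W.ι e he) := by
    refine ⟨fun w => ?_⟩
    have hw : W.ι w ∈ Set.range e := by
      have := Set.mem_range_self (f := W.ι) w
      rwa [Scheme.Opens.range_ι] at this
    obtain ⟨y, hy⟩ := hw
    refine ⟨y, ?_⟩
    apply W.ι.isOpenEmbedding.injective
    rw [← Scheme.Hom.comp_apply, he', hy]
  have h2 : Flat (IsOpenImmersion.lift W.ι e he) :=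
    MorphismProperty.of_postcomp (W := @Flat) (W' := @IsOpenImmersion) _ W.ι inferInstance
      (by rw [he']; infer_instance)
  have h3 : LocallyOfFinitePresentation (IsOpenImmersion.lift W.ι e he) :=
    MorphismProperty.of_postcomp (W := @LocallyOfFinitePresentation) (W' := @IsOpenImmersion) _
      W.ι inferInstance (by rw [he']; infer_instance)
  have h4 : P (IsOpenImmersion.lift W.ι j hj) :=
    MorphismProperty.of_isPullback_of_descendsAlong (P := P)
      (Q := @Surjective ⊓ @Flat ⊓ @LocallyOfFinitePresentation) sq'.flip ⟨⟨h1, h2⟩, h3⟩ hi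
  rw [← hj']
  exact hP _ _ inferInstance h4

end Groth.Agent.H5.EtSrc
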