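import Groth.Agent.Lib.Helper5.EtSrc.Easy
import Groth.Agent.Lib.Helper5.EtSrc.GeomDesc
set_option autoImplicit false
universe u
open CategoryTheory CategoryTheory.Limits AlgebraicGeometry MorphismProperty TensorProduct
namespace Groth.Agent.H5.EtSrc

/-- Finite type descends along an étale faithfully flat extension of the source. -/
theorem finiteType_of_etale_of_faithfullyFlat {A B C : Type u} [CommRing A] [CommRing B]
    [CommRing C] [Algebra A B] [Algebra B C] [Algebra A C] [IsScalarTower A B C]
    [Algebra.Etale B C] [Module.FaithfullyFlat B C] [Algebra.FiniteType A C] :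
    Algebra.FiniteType A B := by
  obtain ⟨B₀, C₀, _, _, hfg, _, ⟨e⟩⟩ := Algebra.Etale.exists_subalgebra_fg A B C
  have po := CommRingCat.isPushout_tensorProduct B₀ B C₀
  have pb := isPullback_SpecMap_of_isPushout _ _ _ _ po
  -- faithful flatness of `B ⊗[B₀] C₀` over `B`
  have hff : Module.FaithfullyFlat B (B ⊗[B₀] C₀) :=
    Module.FaithfullyFlat.of_linearEquiv B C e.symm.toLinearEquiv
  have hsurj : Surjective (Spec.map (CommRingCat.ofHom
      (Algebra.TensorProduct.includeLeftRingHom : B →+* B ⊗[B₀] C₀))) :=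
    ⟨PrimeSpectrum.comap_surjective_of_faithfullyFlat (A := B) (B := B ⊗[B₀] C₀)⟩
  -- `B ⊗[B₀] C₀` is of finite type over `A`
  have hft : Algebra.FiniteType A (B ⊗[B₀] C₀) :=
    Algebra.FiniteType.equiv ‹_› (e.restrictScalars A)
  -- the étale map `Spec C₀ ⟶ Spec B₀`
  have het : Etale (Spec.map (CommRingCat.ofHom (algebraMap B₀ C₀))) := by
    rw [HasRingHomProperty.Spec_iff (P := @Etale)]
    exact RingHom.etale_algebraMap.mpr inferInstance
  -- the map `Spec (B ⊗ C₀) ⟶ Spec C₀` is locally of finite type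
  have hi : LocallyOfFiniteType (Spec.map (CommRingCat.ofHom
      (Algebra.TensorProduct.includeRight.toRingHom : C₀ →+* B ⊗[B₀] C₀))) := by
    rw [HasRingHomProperty.Spec_iff (P := @LocallyOfFiniteType)]
    have h1 : (algebraMap A (B ⊗[B₀] C₀)).FiniteType := RingHom.finiteType_algebraMap.mpr hft
    have h2 : algebraMap A (B ⊗[B₀] C₀) =
        (Algebra.TensorProduct.includeRight.toRingHom : C₀ →+* B ⊗[B₀] C₀).comp
          ((algebraMap B₀ C₀).comp (algebraMap A B₀)) := by
      ext a
      simp only [RingHom.coe_comp, Function.comp_apply, AlgHom.toRingHom_eq_coe, RingHom.coe_coe,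
        Algebra.TensorProduct.includeRight_apply, Algebra.TensorProduct.algebraMap_apply]
      rw [Algebra.algebraMap_eq_smul_one (algebraMap A B₀ a), ← TensorProduct.smul_tmul]
      congr 1
      rw [Algebra.smul_def, mul_one]
      rfl
    rw [h2] at h1
    exact RingHom.FiniteType.of_comp_finiteType h1
  have hj : LocallyOfFiniteType (Spec.map (CommRingCat.ofHom (algebraMap B₀ B))) :=
    of_isPullback_of_flat_lfp (P := @LocallyOfFiniteType)
      (fun f g _ hf => by have : LocallyOfFiniteType f := hf; infer_instance) pb hi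
  rw [HasRingHomProperty.Spec_iff (P := @LocallyOfFiniteType)] at hj
  have h0 : (algebraMap A B₀).FiniteType :=
    RingHom.finiteType_algebraMap.mpr ((Subalgebra.fg_iff_finiteType B₀).mp hfg)
  have hj' : (algebraMap B₀ B).FiniteType := hj
  have := RingHom.FiniteType.comp hj' h0
  rw [← RingHom.finiteType_algebraMap]
  exact this


instance isEtaleLocalSource_locallyOfFiniteType :
    IsEtaleLocalSource (@LocallyOfFiniteType : MorphismProperty Scheme.{u}) := by
  refine isEtaleLocalSource_of_ringHom (Q := RingHom.FiniteType) ?_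
  intro A B C _ _ _ φ ψ hψ hs h
  algebraize [φ, ψ, ψ.comp φ]
  have := faithfullyFlat_of_etale_of_comap_surjective (B := B) (C := C) hs
  exact finiteType_of_etale_of_faithfullyFlat (A := A) (B := B) (C := C)

/-- Discreteness of a subset can be checked on its preimage under a surjective open map. -/
lemma isDiscrete_of_preimage {X Y : Type*} [TopologicalSpace X] [TopologicalSpace Y] {g : X → Y}
    (hg : IsOpenMap g) (hs : Function.Surjective g) {s : Set Y} (h : IsDiscrete (g ⁻¹' s)) :
    IsDiscrete s := by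
  rw [isDiscrete_iff_forall_mem_exists_isOpen] at h ⊢
  intro y hy
  obtain ⟨x, rfl⟩ := hs y
  obtain ⟨u, hu, hux⟩ := h x hy
  refine ⟨g '' u, hg u hu, ?_⟩
  ext z
  constructor
  · rintro ⟨⟨w, hw, rfl⟩, hz⟩
    have : w ∈ u ∩ g ⁻¹' s := ⟨hw, hz⟩
    rw [hux] at this
    rw [Set.mem_singleton_iff.mp this]
    rfl
  · rintro rfl
    have : x ∈ u ∩ g ⁻¹' s := by rw [hux]; rfl
    exact ⟨⟨x, this.1, rfl⟩, hy⟩

instance isEtaleLocalSource_lqf_lft :
    IsEtaleLocalSource (@LocallyQuasiFinite ⊓ @LocallyOfFiniteType :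
      MorphismProperty Scheme.{u}) where
  of_comp {U' U V} g f hg hs h := by
    have h2 : LocallyOfFiniteType f := IsEtaleLocalSource.of_comp g f hg hs h.2
    refine ⟨?_, h2⟩
    have h1 : LocallyQuasiFinite (g ≫ f) := h.1
    rw [locallyQuasiFinite_iff_isDiscrete_preimage_singleton]
    intro x
    have := (g ≫ f).isDiscrete_preimage_singleton x
    have hgo : IsOpenMap g := g.isOpenMap
    have heq : (g ≫ f : U' ⟶ V) ⁻¹' {x} = g ⁻¹' (f ⁻¹' {x}) := by
      ext z
      simp only [Set.mem_preimage, Set.mem_singleton_iff, Scheme.Hom.comp_apply]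
    rw [heq] at this
    exact isDiscrete_of_preimage hgo g.surjective this

end Groth.Agent.H5.EtSrc
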