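import Mathlib
set_option autoImplicit false
universe u
open TensorProduct MvPolynomial
namespace Groth.Agent.H5.EtSrc

open Algebra in
/-- Étale algebras lift along surjections. -/
theorem exists_etale_lift {R B C : Type u} [CommRing R] [CommRing B] [CommRing C] [Algebra R B]
    [Algebra B C] [Algebra R C] [IsScalarTower R B C]
    (hsurj : Function.Surjective (algebraMap R B)) [Algebra.Etale B C] :
    ∃ (E : Type u) (_ : CommRing E) (_ : Algebra R E) (_ : Algebra.Etale R E) (ψ : E →ₐ[R] C),
      Function.Surjective ψ ∧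
        RingHom.ker ψ = (RingHom.ker (algebraMap R B)).map (algebraMap R E) := by
  obtain ⟨ι, σ, _, _, 𝓟, h𝓟⟩ :=
    (Algebra.Etale.iff_isStandardSmoothOfRelativeDimension_zero.mp ‹_›).out
  classical
  have := Fintype.ofFinite σ
  have hmap : Function.Surjective
      (MvPolynomial.map (algebraMap R B) : MvPolynomial ι R → MvPolynomial ι B) :=
    MvPolynomial.map_surjective _ hsurj
  choose r' hr' using fun j => hmap (𝓟.relation j)
  let 𝒩 : PreSubmersivePresentation R (MvPolynomial ι R ⧸ Ideal.span (Set.range r')) ι σ :=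
    PreSubmersivePresentation.naive (v := r') 𝓟.map 𝓟.map_inj
  let E := Localization.Away 𝒩.jacobian
  have hΔ : IsUnit (algebraMap _ E 𝒩.jacobian) := IsLocalization.Away.algebraMap_isUnit _
  let P' : SubmersivePresentation R E _ _ :=
    { toPreSubmersivePresentation := .comp (.localizationAway E 𝒩.jacobian) 𝒩,
      jacobian_isUnit := by simp [Algebra.smul_def, -isUnit_map_iff, hΔ] }
  have hE : IsStandardSmoothOfRelativeDimension 0 R E :=
    ⟨_, _, _, inferInstance, P', by
      simp only [PreSubmersivePresentation.dimension_comp_eq_dimension_add_dimension, P']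
      have h1 : 𝒩.dimension = 𝓟.dimension := rfl
      rw [h1, h𝓟]
      simp [Presentation.dimension]⟩
  have hEt : Algebra.Etale R E := Algebra.Etale.iff_isStandardSmoothOfRelativeDimension_zero.mpr hE
  -- the map to `C`
  let φ : MvPolynomial ι R →ₐ[R] C := MvPolynomial.aeval 𝓟.val
  have hφ : ∀ p, φ p = MvPolynomial.aeval 𝓟.val (MvPolynomial.map (algebraMap R B) p) :=
    fun p => (MvPolynomial.aeval_map_algebraMap B 𝓟.val p).symm
  have hφr : ∀ j, φ (r' j) = 0 := by
    intro j
    rw [hφ, hr']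
    exact 𝓟.aeval_val_relation j
  have hφI : ∀ a ∈ Ideal.span (Set.range r'), φ a = 0 := by
    intro a ha
    have : Ideal.span (Set.range r') ≤ RingHom.ker φ := by
      rw [Ideal.span_le]
      rintro _ ⟨j, rfl⟩
      exact hφr j
    exact this ha
  let ψ₀ : (MvPolynomial ι R ⧸ Ideal.span (Set.range r')) →ₐ[R] C :=
    Ideal.Quotient.liftₐ _ φ hφI
  have hψ₀mk : ∀ x, ψ₀ (Ideal.Quotient.mk _ x) = φ x := fun x => rfl
  have hψ₀Δ : ψ₀ 𝒩.jacobian = 𝓟.jacobian := by
    rw [PreSubmersivePresentation.jacobian_eq_jacobiMatrix_det,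
      PreSubmersivePresentation.jacobian_eq_jacobiMatrix_det]
    change ψ₀ (Ideal.Quotient.mk _ 𝒩.jacobiMatrix.det) = _
    rw [hψ₀mk, AlgHom.map_det, Generators.algebraMap_apply, AlgHom.map_det]
    congr 1
    ext i j
    simp only [AlgHom.mapMatrix_apply, Matrix.map_apply]
    rw [PreSubmersivePresentation.jacobiMatrix_apply, PreSubmersivePresentation.jacobiMatrix_apply,
      hφ, ← MvPolynomial.pderiv_map]
    congr 2
    exact hr' j
  have hunit : IsUnit (ψ₀ 𝒩.jacobian) := by rw [hψ₀Δ]; exact 𝓟.jacobian_isUnit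
  let ψ : E →ₐ[R] C := IsLocalization.liftAlgHom (M := Submonoid.powers 𝒩.jacobian) (f := ψ₀)
    (by
      rintro ⟨_, n, rfl⟩
      simpa using hunit.pow n)
  have hψalg : ∀ x, ψ (algebraMap _ E x) = ψ₀ x := fun x => by
    simp [ψ]
  -- surjectivity
  have hφsurj : Function.Surjective φ := by
    intro c
    obtain ⟨p, hp⟩ := 𝓟.algebraMap_surjective c
    obtain ⟨q, rfl⟩ := hmap p
    refine ⟨q, ?_⟩
    rw [hφ, ← hp, Generators.algebraMap_apply]
  have hψsurj : Function.Surjective ψ := by
    intro c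
    obtain ⟨q, rfl⟩ := hφsurj c
    exact ⟨algebraMap _ E (Ideal.Quotient.mk _ q), by rw [hψalg, hψ₀mk]⟩
  refine ⟨E, inferInstance, inferInstance, hEt, ψ, hψsurj, ?_⟩
  -- the kernel
  have hkerφ : RingHom.ker φ = Ideal.span (Set.range r') ⊔
      (RingHom.ker (algebraMap R B)).map (MvPolynomial.C : R →+* MvPolynomial ι R) := by
    have h1 : RingHom.ker φ = (RingHom.ker (MvPolynomial.aeval (R := B) 𝓟.val)).comap
        (MvPolynomial.map (algebraMap R B) : MvPolynomial ι R →+* MvPolynomial ι B) := by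
      ext p
      simp only [RingHom.mem_ker, Ideal.mem_comap]
      rw [hφ]
    have h2 : RingHom.ker (MvPolynomial.aeval (R := B) 𝓟.val) =
        (Ideal.span (Set.range r')).map
          (MvPolynomial.map (algebraMap R B) : MvPolynomial ι R →+* MvPolynomial ι B) := by
      rw [← Generators.ker_eq_ker_aeval_val, ← 𝓟.span_range_relation_eq_ker, Ideal.map_span]
      congr 1
      ext p
      constructor
      · rintro ⟨j, rfl⟩
        exact ⟨r' j, ⟨j, rfl⟩, hr' j⟩
      · rintro ⟨_, ⟨j, rfl⟩, rfl⟩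
        exact ⟨j, (hr' j).symm⟩
    rw [h1, h2, Ideal.comap_map_of_surjective _ hmap, ← RingHom.ker_eq_comap_bot,
      MvPolynomial.ker_map]
  have hkerψ₀ : RingHom.ker ψ₀ = (RingHom.ker (algebraMap R B)).map (algebraMap R _) := by
    have : RingHom.ker ψ₀ = (RingHom.ker φ).map (Ideal.Quotient.mk _) :=
      Ideal.ker_quotient_lift (φ : MvPolynomial ι R →+* C) _
    rw [this, hkerφ, Ideal.map_sup, Ideal.map_quotient_self, bot_sup_eq, Ideal.map_map]
    rfl
  have hker : RingHom.ker ψ = (RingHom.ker ψ₀).map (algebraMap _ E) := by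
    rw [← IsLocalization.map_under (Submonoid.powers 𝒩.jacobian) E (RingHom.ker ψ)]
    congr 1
    ext x
    simp only [Ideal.under, Ideal.mem_comap, RingHom.mem_ker]
    rw [hψalg]
  rw [hker, hkerψ₀, Ideal.map_map, ← IsScalarTower.algebraMap_eq]

end Groth.Agent.H5.EtSrc
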