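import Groth.Agent.Lib.Helper5.EtSrc.FiniteType
import Groth.Agent.Lib.Helper5.EtSrc.Lifting
set_option autoImplicit false
universe u
open CategoryTheory CategoryTheory.Limits AlgebraicGeometry MorphismProperty TensorProduct
namespace Groth.Agent.H5.EtSrc

/-- A surjection `E → C` of `E`-algebras with kernel `I E` exhibits `C` as `E ⊗[R] (R ⧸ I)`. -/
theorem isPushout_quotient {R E C : Type u} [CommRing R] [CommRing E] [CommRing C] [Algebra R E]
    (I : Ideal R) [Algebra (R ⧸ I) C] [Algebra R C] [IsScalarTower R (R ⧸ I) C] [Algebra E C]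
    [IsScalarTower R E C] (hs : Function.Surjective (algebraMap E C))
    (hker : RingHom.ker (algebraMap E C) = I.map (algebraMap R E)) :
    Algebra.IsPushout R E (R ⧸ I) C := by
  rw [Algebra.isPushout_iff]
  let e₁ : (E ⧸ I.map (algebraMap R E)) ≃ₐ[E] E ⊗[R] (R ⧸ I) :=
    Algebra.TensorProduct.quotIdealMapEquivTensorQuot E I
  let e₂ : (E ⧸ RingHom.ker (Algebra.ofId E C)) ≃ₐ[E] C :=
    Ideal.quotientKerAlgEquivOfSurjective (f := Algebra.ofId E C) hs
  have hk : I.map (algebraMap R E) = RingHom.ker (Algebra.ofId E C) := hker.symm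
  let e₃ : (E ⧸ I.map (algebraMap R E)) ≃ₐ[E] (E ⧸ RingHom.ker (Algebra.ofId E C)) :=
    Ideal.quotientEquivAlgOfEq E hk
  refine IsBaseChange.of_equiv (e₁.symm.trans (e₃.trans e₂)).toLinearEquiv ?_
  intro x
  obtain ⟨x, rfl⟩ := Ideal.Quotient.mk_surjective x
  have h1 : e₁.symm ((1 : E) ⊗ₜ[R] (Ideal.Quotient.mk I x)) =
      Ideal.Quotient.mk _ (algebraMap R E x) := by
    rw [AlgEquiv.symm_apply_eq]
    simp only [e₁, Algebra.TensorProduct.quotIdealMapEquivTensorQuot_mk]
    rw [Algebra.algebraMap_eq_smul_one, TensorProduct.smul_tmul, ← Algebra.algebraMap_eq_smul_one]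
    rfl
  simp only [AlgEquiv.toLinearEquiv_apply, AlgEquiv.trans_apply, AlgHom.toLinearMap_apply,
    IsScalarTower.coe_toAlgHom']
  rw [h1]
  change algebraMap E C (algebraMap R E x) = _
  rw [← IsScalarTower.algebraMap_apply, IsScalarTower.algebraMap_apply R (R ⧸ I) C]
  rfl

/-- Key case of descent of finite presentation: the kernel is finitely generated. -/
theorem fg_of_etale_faithfullyFlat_quotient {A R C : Type u} [CommRing A] [CommRing R] [CommRing C]
    [Algebra A R] [Algebra.FinitePresentation A R] (I : Ideal R) [Algebra (R ⧸ I) C]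
    [Algebra R C] [IsScalarTower R (R ⧸ I) C] [Algebra A C] [IsScalarTower A R C]
    [Algebra.Etale (R ⧸ I) C] [Module.FaithfullyFlat (R ⧸ I) C] [Algebra.FinitePresentation A C] :
    I.FG := by
  obtain ⟨E, _, _, hEt, ψ, hψs, hker⟩ :=
    exists_etale_lift (R := R) (B := R ⧸ I) (C := C) Ideal.Quotient.mk_surjective
  have hI : RingHom.ker (algebraMap R (R ⧸ I)) = I := by
    rw [Ideal.Quotient.algebraMap_eq, Ideal.mk_ker]
  rw [hI] at hker
  let _ : Algebra E C := ψ.toRingHom.toAlgebra
  have : IsScalarTower R E C := .of_algebraMap_eq' ψ.comp_algebraMap.symm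
  let _ : Algebra A E := ((algebraMap R E).comp (algebraMap A R)).toAlgebra
  have : IsScalarTower A R E := .of_algebraMap_eq' rfl
  have : Algebra.FinitePresentation A E := .trans A R E
  have : IsScalarTower A E C := .to₁₃₄ A R E C
  -- the kernel of `E → C` is finitely generated
  have hfg : (I.map (algebraMap R E)).FG := by
    rw [← hker]
    exact Algebra.FinitePresentation.ker_fG_of_surjective (ψ.restrictScalars A) hψs
  have hs : Function.Surjective (algebraMap E C) := hψs
  have hk : RingHom.ker (algebraMap E C) = I.map (algebraMap R E) := hker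
  have po : Algebra.IsPushout R (R ⧸ I) E C := (isPushout_quotient I hs hk).symm
  have pb := isPullback_SpecMap_of_isPushout _ _ _ _
    (CommRingCat.isPushout_of_isPushout R (R ⧸ I) E C)
  -- hypotheses of the descent lemma
  have hpr : Surjective (Spec.map (CommRingCat.ofHom (algebraMap (R ⧸ I) C))) :=
    ⟨PrimeSpectrum.comap_surjective_of_faithfullyFlat (A := R ⧸ I) (B := C)⟩
  have het : Etale (Spec.map (CommRingCat.ofHom (algebraMap R E))) := by
    rw [HasRingHomProperty.Spec_iff (P := @Etale)]
    exact RingHom.etale_algebraMap.mpr inferInstance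
  have hi : LocallyOfFinitePresentation (Spec.map (CommRingCat.ofHom (algebraMap E C))) := by
    rw [HasRingHomProperty.Spec_iff (P := @LocallyOfFinitePresentation)]
    exact RingHom.FinitePresentation.of_surjective (algebraMap E C) hs (by rw [hk]; exact hfg)
  have hj : LocallyOfFinitePresentation
      (Spec.map (CommRingCat.ofHom (algebraMap R (R ⧸ I)))) :=
    of_isPullback_of_flat_lfp (P := @LocallyOfFinitePresentation)
      (fun f g _ hf => by have : LocallyOfFinitePresentation f := hf; infer_instance) pb hi
  rw [HasRingHomProperty.Spec_iff (P := @LocallyOfFinitePresentation)] at hj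
  have hj' : (algebraMap R (R ⧸ I)).FinitePresentation := hj
  have : Algebra.FinitePresentation R (R ⧸ I) := RingHom.finitePresentation_algebraMap.mp hj'
  have := Algebra.FinitePresentation.ker_fG_of_surjective (Ideal.Quotient.mkₐ R I)
    Ideal.Quotient.mk_surjective
  simpa using this

/-- Finite presentation descends along an étale faithfully flat extension of the source. -/
theorem finitePresentation_of_etale_of_faithfullyFlat {A B C : Type u} [CommRing A] [CommRing B]
    [CommRing C] [Algebra A B] [Algebra B C] [Algebra A C] [IsScalarTower A B C]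
    [Algebra.Etale B C] [Module.FaithfullyFlat B C] [Algebra.FinitePresentation A C] :
    Algebra.FinitePresentation A B := by
  have hft : Algebra.FiniteType A B := finiteType_of_etale_of_faithfullyFlat (C := C)
  obtain ⟨n, π, hπ⟩ := Algebra.FiniteType.iff_quotient_mvPolynomial''.mp hft
  let e' : (MvPolynomial (Fin n) A ⧸ RingHom.ker π) ≃ₐ[A] B :=
    Ideal.quotientKerAlgEquivOfSurjective hπ
  let _ : Algebra (MvPolynomial (Fin n) A ⧸ RingHom.ker π) C :=
    ((algebraMap B C).comp (e' : _ →+* B)).toAlgebra
  let _ : Algebra (MvPolynomial (Fin n) A) C := ((algebraMap B C).comp (π : _ →+* B)).toAlgebra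
  have : IsScalarTower (MvPolynomial (Fin n) A) (MvPolynomial (Fin n) A ⧸ RingHom.ker π) C := by
    refine IsScalarTower.of_algebraMap_eq (R := MvPolynomial (Fin n) A)
      (S := MvPolynomial (Fin n) A ⧸ RingHom.ker π) (A := C) (fun x => ?_)
    simp only [RingHom.algebraMap_toAlgebra, RingHom.coe_comp, Function.comp_apply,
      Ideal.Quotient.algebraMap_eq]
    rfl
  have : IsScalarTower A (MvPolynomial (Fin n) A) C := by
    refine IsScalarTower.of_algebraMap_eq (R := A) (S := MvPolynomial (Fin n) A) (A := C)
      (fun a => ?_)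
    simp only [RingHom.algebraMap_toAlgebra, RingHom.coe_comp, Function.comp_apply]
    rw [IsScalarTower.algebraMap_apply A B C]
    congr 1
    exact (π.commutes a).symm
  have : Algebra.Etale (MvPolynomial (Fin n) A ⧸ RingHom.ker π) C := by
    rw [← RingHom.etale_algebraMap]
    exact RingHom.Etale.respectsIso.2 (algebraMap B C) e'.toRingEquiv
      (RingHom.etale_algebraMap.mpr inferInstance)
  have : Module.FaithfullyFlat (MvPolynomial (Fin n) A ⧸ RingHom.ker π) C := by
    rw [← RingHom.faithfullyFlat_algebraMap_iff]
    exact RingHom.FaithfullyFlat.respectsIso.2 (algebraMap B C) e'.toRingEquiv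
      (RingHom.faithfullyFlat_algebraMap_iff.mpr inferInstance)
  have hfg : (RingHom.ker π).FG :=
    fg_of_etale_faithfullyFlat_quotient (A := A) (R := MvPolynomial (Fin n) A) _ (C := C)
  have : Algebra.FinitePresentation A (MvPolynomial (Fin n) A ⧸ RingHom.ker π) :=
    Algebra.FinitePresentation.quotient hfg
  exact Algebra.FinitePresentation.equiv e'

instance isEtaleLocalSource_locallyOfFinitePresentation :
    IsEtaleLocalSource (@LocallyOfFinitePresentation : MorphismProperty Scheme.{u}) := by
  refine isEtaleLocalSource_of_ringHom (Q := RingHom.FinitePresentation) ?_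
  intro A B C _ _ _ φ ψ hψ hs h
  algebraize [φ, ψ, ψ.comp φ]
  have := faithfullyFlat_of_etale_of_comap_surjective (B := B) (C := C) hs
  exact finitePresentation_of_etale_of_faithfullyFlat (A := A) (B := B) (C := C)

/-- Étaleness descends along an étale faithfully flat extension of the source. -/
theorem etale_of_etale_of_faithfullyFlat {A B C : Type u} [CommRing A] [CommRing B]
    [CommRing C] [Algebra A B] [Algebra B C] [Algebra A C] [IsScalarTower A B C]
    [Algebra.Etale B C] [Module.FaithfullyFlat B C] [Algebra.Etale A C] :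
    Algebra.Etale A B := by
  have : Algebra.FinitePresentation A B := finitePresentation_of_etale_of_faithfullyFlat (C := C)
  have : Module.Flat A B := flat_of_flat_of_faithfullyFlat (C := C)
  have : Algebra.FormallyUnramified A B :=
    formallyUnramified_of_formallyEtale_of_faithfullyFlat (C := C)
  exact Algebra.Etale.of_formallyUnramified_of_flat

instance isEtaleLocalSource_etale :
    IsEtaleLocalSource (@Etale : MorphismProperty Scheme.{u}) := by
  refine isEtaleLocalSource_of_ringHom (Q := RingHom.Etale) ?_
  intro A B C _ _ _ φ ψ hψ hs h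
  algebraize [φ, ψ, ψ.comp φ]
  have := faithfullyFlat_of_etale_of_comap_surjective (B := B) (C := C) hs
  exact RingHom.etale_algebraMap.mpr (etale_of_etale_of_faithfullyFlat (A := A) (B := B) (C := C))

end Groth.Agent.H5.EtSrc
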