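import Mathlib

/-!
# Properties of morphisms of schemes that are étale local on the source

`IsEtaleLocalSource P`: if `g` is étale and surjective and `g ≫ f` has `P` then `f` has `P`.
We reduce this, for a property with an associated ring hom property, to a statement on rings.
-/

set_option autoImplicit false

universe u

open CategoryTheory CategoryTheory.Limits AlgebraicGeometry MorphismProperty

namespace Groth.Agent.H5.EtSrc

/-- `P` is étale local on the source (descent part). -/
class IsEtaleLocalSource (P : MorphismProperty Scheme.{u}) : Prop where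
  of_comp {U' U V : Scheme.{u}} (g : U' ⟶ U) (f : U ⟶ V) :
    Etale g → Surjective g → P (g ≫ f) → P f

lemma IsEtaleLocalSource.inf (P Q : MorphismProperty Scheme.{u}) [IsEtaleLocalSource P]
    [IsEtaleLocalSource Q] : IsEtaleLocalSource (P ⊓ Q) where
  of_comp g f hg hs h :=
    ⟨IsEtaleLocalSource.of_comp g f hg hs h.1, IsEtaleLocalSource.of_comp g f hg hs h.2⟩

instance (P Q : MorphismProperty Scheme.{u}) [IsEtaleLocalSource P]
    [IsEtaleLocalSource Q] : IsEtaleLocalSource (P ⊓ Q) := IsEtaleLocalSource.inf P Q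

/-- Precomposition with a local isomorphism preserves a property that is Zariski local at the
source. -/
lemma comp_of_isLocalIso {P : MorphismProperty Scheme.{u}} [IsZariskiLocalAtSource P]
    {X Y Z : Scheme.{u}} (p : X ⟶ Y) (f : Y ⟶ Z) [hp : IsLocalIso p] (hf : P f) : P (p ≫ f) := by
  obtain ⟨𝒰, h⟩ := IsLocalIso.eq_sourceLocalClosure_isOpenImmersion ▸ hp
  rw [IsZariskiLocalAtSource.iff_of_openCover 𝒰 (P := P)]
  intro i
  have : IsOpenImmersion (𝒰.f i ≫ p) := h i
  rw [← Category.assoc]
  exact IsZariskiLocalAtSource.comp hf _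

theorem isEtaleLocalSource_of_ringHom {P : MorphismProperty Scheme.{u}}
    {Q : ∀ {R S : Type u} [CommRing R] [CommRing S], (R →+* S) → Prop}
    [HasRingHomProperty P Q]
    (hQ : ∀ {A B C : Type u} [CommRing A] [CommRing B] [CommRing C] (φ : A →+* B) (ψ : B →+* C),
      ψ.Etale → Function.Surjective (PrimeSpectrum.comap ψ) → Q (ψ.comp φ) → Q φ) :
    IsEtaleLocalSource P := by
  constructor
  intro U' U V g f hg hs h
  wlog hV : ∃ A, V = Spec A generalizing U' U V
  · rw [IsZariskiLocalAtTarget.iff_of_openCover (P := P) V.affineCover]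
    intro i
    refine this (pullback.snd g (pullback.fst f (V.affineCover.f i)))
      (pullback.snd f (V.affineCover.f i)) inferInstance inferInstance ?_ ⟨_, rfl⟩
    have sq := (IsPullback.of_hasPullback g (pullback.fst f (V.affineCover.f i))).paste_vert
      (IsPullback.of_hasPullback f (V.affineCover.f i))
    exact IsZariskiLocalAtTarget.of_isPullback sq h
  obtain ⟨A, rfl⟩ := hV
  wlog hU : ∃ B, U = Spec B generalizing U' U
  · rw [IsZariskiLocalAtSource.iff_of_openCover (P := P) U.affineCover]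
    intro i
    refine this (pullback.snd g (U.affineCover.f i)) inferInstance inferInstance
      (U.affineCover.f i ≫ f) ?_ ⟨_, rfl⟩
    rw [← Category.assoc, ← pullback.condition, Category.assoc]
    exact IsZariskiLocalAtSource.comp h _
  obtain ⟨B, rfl⟩ := hU
  have hgo : IsOpenMap g := g.isOpenMap
  obtain ⟨W₀ : U'.Opens, hW₀, e⟩ := hgo.exists_opens_image_eq_of_prespectralSpace
    g.continuous (by simp [Set.range_eq_univ.mpr g.surjective]) isOpen_univ isCompact_univ
  have : CompactSpace ↥(W₀ : Scheme.{u}) := isCompact_iff_compactSpace.mp hW₀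
  obtain ⟨Y, p, hp1, hp2, hY⟩ :=
    Scheme.exists_hom_isAffine_of_isZariskiLocalAtSource @IsLocalIso (W₀ : Scheme.{u})
  have hι : IsLocalIso W₀.ι := ⟨fun x => ⟨⊤, trivial, inferInstance⟩⟩
  have hp2' : IsLocalIso (p ≫ W₀.ι) := MorphismProperty.comp_mem _ _ _ hp2 hι
  have h1 : P ((p ≫ W₀.ι) ≫ g ≫ f) := comp_of_isLocalIso _ _ h
  have hq_et : Etale ((p ≫ W₀.ι) ≫ g) :=
    MorphismProperty.comp_mem _ _ _ (IsLocalIso.le_of_isZariskiLocalAtSource @Etale _ _ _ hp2') hg
  have hq_surj : Surjective ((p ≫ W₀.ι) ≫ g) := by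
    refine ⟨fun b => ?_⟩
    have hb : b ∈ g '' (W₀ : Set U') := by rw [e]; trivial
    obtain ⟨w, hw, rfl⟩ := hb
    obtain ⟨y, hy⟩ := hp1.surj ⟨w, hw⟩
    refine ⟨y, ?_⟩
    rw [Scheme.Hom.comp_apply, Scheme.Hom.comp_apply, hy]
    rfl
  obtain ⟨φ, rfl⟩ := Spec.map_surjective f
  obtain ⟨ψ, hψ⟩ := Spec.map_surjective (Y.isoSpec.inv ≫ (p ≫ W₀.ι) ≫ g)
  have hψ_et : Etale (Spec.map ψ) := by rw [hψ]; infer_instance
  have hψ_surj : Surjective (Spec.map ψ) := by rw [hψ]; infer_instance
  have h2 : P (Spec.map ψ ≫ Spec.map φ) := by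
    rw [hψ, Category.assoc, P.cancel_left_of_respectsIso]
    simpa using h1
  rw [← Spec.map_comp, HasRingHomProperty.Spec_iff (P := P)] at h2
  rw [HasRingHomProperty.Spec_iff (P := P)]
  rw [HasRingHomProperty.Spec_iff (P := @Etale)] at hψ_et
  exact hQ φ.hom ψ.hom hψ_et (Spec.map ψ).surjective h2

end Groth.Agent.H5.EtSrc
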